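import Cfsg.Agent.H207.LinFour.Ext

/-!
# S1918: `Sit` and large extraspecial groups, counting (helper207)
-/

set_option autoImplicit false

namespace Cfsg.Agent.H207.LinFour

open Subgroup Cfsg.Agent.H336.LinFour Cfsg.Agent.Co2Type.Quad

section

variable {K : Type*} [Group K] {th : V → K} {O K0 Q : Subgroup K}

theorem mem_cen (h : Sit th O K0) (v : V) : th v ∈ centralizer ({th a0} : Set K) :=
  mem_centralizer_singleton_iff.2 (h.comm v a0)

/-- `A` acting on `Q / ⟨z⟩` -/
noncomputable def T (h : Sit th O K0) (L : Large Q (th a0)) (v : V) : L.V →ₗ[ZMod 2] L.V :=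
  (L.act ⟨th v, mem_cen h v⟩).toLinearMap

theorem T_apply (h : Sit th O K0) (L : Large Q (th a0)) (v : V) (w : L.V) :
    T h L v w = L.act ⟨th v, mem_cen h v⟩ w := rfl

theorem T_add (h : Sit th O K0) (L : Large Q (th a0)) (u v : V) (w : L.V) :
    T h L (u + v) w = T h L u (T h L v w) := by
  have : (⟨th (u + v), mem_cen h (u + v)⟩ : centralizer ({th a0} : Set K)) =
      ⟨th u, mem_cen h u⟩ * ⟨th v, mem_cen h v⟩ := Subtype.ext (h.add u v)
  rw [T_apply, this, map_mul]
  rfl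

theorem T_zero (h : Sit th O K0) (L : Large Q (th a0)) (w : L.V) : T h L 0 w = w := by
  have : (⟨th 0, mem_cen h 0⟩ : centralizer ({th a0} : Set K)) = 1 := Subtype.ext h.zero
  rw [T_apply, this, map_one]
  rfl

theorem T_a (h : Sit th O K0) (L : Large Q (th a0)) (w : L.V) : T h L a0 w = w := by
  rw [T_apply, L.act_mem _ (show th a0 ∈ Q from L.z_mem)]
  rfl

theorem T_sq (h : Sit th O K0) (L : Large Q (th a0)) (v : V) (w : L.V) : T h L v (T h L v w) = w := by
  rw [← T_add, v_add_self, T_zero]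

theorem T_comm (h : Sit th O K0) (L : Large Q (th a0)) (u v : V) (w : L.V) :
    T h L u (T h L v w) = T h L v (T h L u w) := by
  rw [← T_add, ← T_add, add_comm]

theorem T_pr (h : Sit th O K0) (L : Large Q (th a0)) (v : V) (x : Q) :
    T h L v (L.pr x) = L.pr x ↔ (x : K) * th v * (x : K)⁻¹ = th v ∨ (x : K) * th v * (x : K)⁻¹ = th (v + a0) := by
  rw [T_apply, L.act_pr, L.pr_eq_pr, L.conjQ_coe]
  have hx : (x : K) * th a0 = th a0 * x := L.comm_z x x.2
  constructor
  · rintro (h1 | h1)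
    · left
      have h1' : th v * (x : K) * (th v)⁻¹ = x := h1
      rw [mul_inv_eq_iff_eq_mul] at h1' ⊢
      exact h1'.symm
    · right
      have h1' : th v * (x : K) * (th v)⁻¹ = x * th a0 := h1
      rw [mul_inv_eq_iff_eq_mul] at h1' ⊢
      rw [h.add, mul_assoc, ← hx, ← mul_assoc, h1', mul_assoc, mul_assoc, h.comm v a0, ← mul_assoc (th a0),
        h.sq, one_mul]
  · rintro (h1 | h1)
    · left
      change th v * (x : K) * (th v)⁻¹ = x
      rw [mul_inv_eq_iff_eq_mul] at h1 ⊢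
      exact h1.symm
    · right
      change th v * (x : K) * (th v)⁻¹ = x * th a0
      rw [mul_inv_eq_iff_eq_mul] at h1 ⊢
      rw [mul_assoc (x : K), h.comm a0 v, ← mul_assoc, h1, h.add]
      rw [mul_assoc, mul_assoc, hx, ← mul_assoc (th a0), h.sq, one_mul]

/-- the commutators -/
noncomputable def dl (h : Sit th O K0) (L : Large Q (th a0)) (v : V) (w : L.V) : L.V := T h L v w + w

theorem w_add_self (L : Large Q (th a0)) (w : L.V) : w + w = 0 := L.add_self w

theorem w_add_eq_zero (L : Large Q (th a0)) {w w' : L.V} : w + w' = 0 ↔ w = w' := by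
  rw [add_eq_zero_iff_eq_neg, L.neg_eq]

theorem dl_add_right (h : Sit th O K0) (L : Large Q (th a0)) (v : V) (w w' : L.V) :
    dl h L v (w + w') = dl h L v w + dl h L v w' := by
  simp only [dl, map_add]; abel

theorem dl_comm (h : Sit th O K0) (L : Large Q (th a0)) (u v : V) (w : L.V) :
    dl h L u (dl h L v w) = dl h L v (dl h L u w) := by
  simp only [dl, map_add]
  rw [T_comm]; abel

theorem dl_dl (h : Sit th O K0) (L : Large Q (th a0)) (v : V) (w : L.V) : dl h L v (dl h L v w) = 0 := by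
  simp only [dl, map_add]
  rw [T_sq]
  have : w + T h L v w + (T h L v w + w) = (w + T h L v w) + (w + T h L v w) := by abel
  rw [this]
  exact w_add_self L _

theorem dl_a0 (h : Sit th O K0) (L : Large Q (th a0)) (w : L.V) : dl h L a0 w = 0 := by
  rw [dl, T_a]; exact w_add_self L _

theorem dl_zero_left (h : Sit th O K0) (L : Large Q (th a0)) (w : L.V) : dl h L 0 w = 0 := by
  rw [dl, T_zero]; exact w_add_self L _

theorem dl_zero (h : Sit th O K0) (L : Large Q (th a0)) (v : V) : dl h L v 0 = 0 := by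
  rw [dl, map_zero, add_zero]

theorem dl_add (h : Sit th O K0) (L : Large Q (th a0)) (u v : V) (w : L.V) :
    dl h L (u + v) w = dl h L u w + dl h L v w + dl h L u (dl h L v w) := by
  simp only [dl, map_add]
  rw [T_add]
  have : T h L u w + w + (T h L v w + w) + (T h L u (T h L v w) + T h L u w + (T h L v w + w)) =
    T h L u (T h L v w) + w + (T h L u w + T h L u w) + (T h L v w + T h L v w) + (w + w) := by abel
  rw [this, w_add_self, w_add_self, w_add_self, add_zero, add_zero, add_zero]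

/-- fixed vectors -/
def Fix (h : Sit th O K0) (L : Large Q (th a0)) (w : L.V) : Prop := ∀ v, dl h L v w = 0

theorem Fix.zero (h : Sit th O K0) (L : Large Q (th a0)) : Fix h L 0 := fun v => dl_zero h L v

theorem Fix.add {h : Sit th O K0} {L : Large Q (th a0)} {w w' : L.V} (hw : Fix h L w) (hw' : Fix h L w') :
    Fix h L (w + w') := fun v => by rw [dl_add_right, hw, hw', add_zero]

/-- an additive condition on `v` holds everywhere if it holds at the basis -/
theorem span {P : V → Prop} (h0 : P 0) (ha : P a0) (h1 : P e1) (h2 : P e2) (h3 : P e3)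
    (hadd : ∀ u v, P u → P v → P (u + v)) (v : V) : P v := by
  have hs : ∀ (c : ZMod 2) (u : V), P u → P (c • u) := by
    intro c u hu
    rcases z2 c with hc | hc
    · rw [hc, zero_smul]; exact h0
    · rw [hc, one_smul]; exact hu
  rw [v_sum v]
  exact hadd _ _ (hs _ _ ha) (hadd _ _ (hs _ _ h1) (hadd _ _ (hs _ _ h2) (hs _ _ h3)))

theorem Fix.of_basis {h : Sit th O K0} {L : Large Q (th a0)} {w : L.V} (h1 : dl h L e1 w = 0) (h2 : dl h L e2 w = 0)
    (h3 : dl h L e3 w = 0) : Fix h L w := by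
  refine span (dl_zero_left h L w) (dl_a0 h L w) h1 h2 h3 fun u v hu hv => ?_
  rw [dl_add, hu, hv, dl_zero, add_zero, add_zero]

/-- second level -/
def Fx2 (h : Sit th O K0) (L : Large Q (th a0)) (w : L.V) : Prop := ∀ v, Fix h L (dl h L v w)

theorem Fx2.of_basis {h : Sit th O K0} {L : Large Q (th a0)} {w : L.V} (h1 : Fix h L (dl h L e1 w))
    (h2 : Fix h L (dl h L e2 w)) (h3 : Fix h L (dl h L e3 w)) : Fx2 h L w := by
  refine span ?_ ?_ h1 h2 h3 fun u v hu hv => ?_
  · rw [dl_zero_left]; exact Fix.zero h L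
  · rw [dl_a0]; exact Fix.zero h L
  · rw [dl_add, hv u, add_zero]
    exact hu.add hv

theorem Fix.exists_fn {h : Sit th O K0} {L : Large Q (th a0)} {w : L.V} (hw : Fix h L w) :
    ∃ f : V → ZMod 2, ∀ x : Q, L.pr x = w → Fn th (x : K) f := by
  classical
  obtain ⟨x0, rfl⟩ := L.pr_surjective w
  refine ⟨fun v => if (x0 : K) * th v * (x0 : K)⁻¹ = th v then 0 else 1, fun x hx v => ?_⟩
  have h1 : (x : K) * th v * (x : K)⁻¹ = (x0 : K) * th v * (x0 : K)⁻¹ := by
    rcases L.pr_eq_pr.1 hx with h1 | h1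
    · rw [h1]
    · rw [h1]
      calc (x0 : K) * th a0 * th v * ((x0 : K) * th a0)⁻¹ = x0 * (th a0 * th v) * (th a0)⁻¹ * (x0 : K)⁻¹ := by group
        _ = x0 * (th v * th a0) * (th a0)⁻¹ * (x0 : K)⁻¹ := by rw [h.comm a0 v]
        _ = _ := by group
  rw [h1]
  have h2 : T h L v (L.pr x0) = L.pr x0 := (w_add_eq_zero L).1 (hw v)
  change _ = th (v + (if (x0 : K) * th v * (x0 : K)⁻¹ = th v then (0 : ZMod 2) else 1) • a0)
  rcases (T_pr h L v x0).1 h2 with h3 | h3
  · rw [if_pos h3, zero_smul, add_zero, h3]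
  · rw [if_neg, one_smul, h3]
    intro h4
    rw [h3] at h4
    have h5 := h.inj h4
    rw [add_eq_left] at h5
    exact a0_ne h5

open Classical in
/-- the functional of a fixed vector -/
noncomputable def lam (h : Sit th O K0) (L : Large Q (th a0)) (w : L.V) : V → ZMod 2 :=
  if hw : Fix h L w then hw.exists_fn.choose else 0

theorem lam_fn {h : Sit th O K0} {L : Large Q (th a0)} {w : L.V} (hw : Fix h L w) {x : Q} (hx : L.pr x = w) :
    Fn th (x : K) (lam h L w) := by
  rw [lam, dif_pos hw]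
  exact hw.exists_fn.choose_spec x hx

theorem lam_add_right {h : Sit th O K0} {L : Large Q (th a0)} {w : L.V} (hw : Fix h L w) (u v : V) :
    lam h L w (u + v) = lam h L w u + lam h L w v := by
  obtain ⟨x, hx⟩ := L.pr_surjective w
  exact (lam_fn hw hx).add h u v

theorem lam_a0 {h : Sit th O K0} {L : Large Q (th a0)} {w : L.V} (hw : Fix h L w) : lam h L w a0 = 0 := by
  obtain ⟨x, hx⟩ := L.pr_surjective w
  exact (lam_fn hw hx).zero_a0 h (L.comm_z x x.2)

theorem lam_add {h : Sit th O K0} {L : Large Q (th a0)} {w w' : L.V} (hw : Fix h L w) (hw' : Fix h L w') (v : V) :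
    lam h L (w + w') v = lam h L w v + lam h L w' v := by
  obtain ⟨x, hx⟩ := L.pr_surjective w
  obtain ⟨y, hy⟩ := L.pr_surjective w'
  have h1 := (lam_fn hw hx).mul h (L.comm_z x x.2) (lam_fn hw' hy)
  have h2 : Fn th ((x : K) * y) (lam h L (w + w')) := lam_fn (hw.add hw') (x := x * y) (by rw [L.pr_mul, hx, hy])
  exact congrFun (h2.unique h h1) v

theorem lam_zero {h : Sit th O K0} {L : Large Q (th a0)} (v : V) : lam h L 0 v = 0 := by
  have := lam_add (Fix.zero h L) (Fix.zero h L) v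
  rw [add_zero] at this
  exact left_eq_add.1 this

theorem eq_zero_of_lam {h : Sit th O K0} {L : Large Q (th a0)} (hQ : ∀ v, th v ∈ Q → v = 0 ∨ v = a0) {w : L.V}
    (hw : Fix h L w) (h1 : lam h L w e1 = 0) (h2 : lam h L w e2 = 0) (h3 : lam h L w e3 = 0) : w = 0 := by
  obtain ⟨x, hx⟩ := L.pr_surjective w
  have hf := lam_fn hw hx
  have h4 : lam h L w = fun _ => 0 := by
    funext v
    rw [hf.eq_dt h (L.comm_z x x.2), h1, h2, h3]
    simp [dt]
  rw [h4] at hf
  rw [← hx, L.pr_eq_zero]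
  exact hf.eq_zero h L hQ x.2

/-- the form is alternating -/
theorem lam_dl {h : Sit th O K0} {L : Large Q (th a0)} (hQ : ∀ v, th v ∈ Q → v = 0 ∨ v = a0) {y : L.V}
    (v : V) (hy : Fix h L (dl h L v y)) : lam h L (dl h L v y) v = 0 := by
  obtain ⟨x, rfl⟩ := L.pr_surjective y
  let c : Q := L.conjQ ⟨th v, mem_cen h v⟩ x
  have hd : L.pr (c * x⁻¹) = dl h L v (L.pr x) := by
    rw [L.pr_mul, L.pr_inv, L.neg_eq, dl, T_apply, L.act_pr]
  have hf := lam_fn hy hd
  set d : K := ((c * x⁻¹ : Q) : K) with hd'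
  have hdd : d * d = 1 := sq_of_fn h L hQ (c * x⁻¹).2 hf
  have hc : (c : K) = th v * x * (th v)⁻¹ := rfl
  have hdv : d = th v * x * (th v)⁻¹ * (x : K)⁻¹ := by
    rw [hd']
    change (c : K) * (x : K)⁻¹ = _
    rw [hc]
  have h1 : th v * d * (th v)⁻¹ * d = 1 := by
    rw [hdv]
    have h2 : th v * (th v * (x : K) * (th v)⁻¹ * (x : K)⁻¹) * (th v)⁻¹ * (th v * (x : K) * (th v)⁻¹ * (x : K)⁻¹) =
      (th v * th v) * x * (th v * th v)⁻¹ * (x : K)⁻¹ := by group
    rw [h2, h.sq]
    group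
  have h2 : th v * d = d * th v := by
    have h3 : th v * d * (th v)⁻¹ = d⁻¹ := eq_inv_of_mul_eq_one_left h1
    rw [inv_eq_of_mul_eq_one_left hdd, mul_inv_eq_iff_eq_mul] at h3
    exact h3
  have h3 := hf v
  rw [← h2, mul_inv_cancel_right] at h3
  have h4 := h.inj h3
  have h5 : v + (0 : ZMod 2) • a0 = v + lam h L (dl h L v (L.pr x)) v • a0 := by rw [zero_smul, add_zero]; exact h4
  exact (smul_a0_inj h5).symm

theorem lam_symm {h : Sit th O K0} {L : Large Q (th a0)} (hQ : ∀ v, th v ∈ Q → v = 0 ∨ v = a0) {y : L.V}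
    (hy : Fx2 h L y) (u v : V) : lam h L (dl h L u y) v = lam h L (dl h L v y) u := by
  have h1 := lam_dl hQ (u + v) (hy (u + v))
  rw [lam_add_right (hy _)] at h1
  have h2 : dl h L (u + v) y = dl h L u y + dl h L v y := by rw [dl_add, hy v u, add_zero]
  rw [h2, lam_add (hy u) (hy v), lam_add (hy u) (hy v), lam_dl hQ u (hy u), lam_dl hQ v (hy v), add_zero,
    zero_add] at h1
  have h3 : ∀ x y : ZMod 2, y + x = 0 → x = y := by decide
  exact h3 _ _ h1

/-! ### the three levels -/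

theorem lev3 {h : Sit th O K0} {L : Large Q (th a0)} (hQ : ∀ v, th v ∈ Q → v = 0 ∨ v = a0) (x : L.V) :
    dl h L e1 (dl h L e2 (dl h L e3 x)) = 0 := by
  have hF : Fix h L (dl h L e1 (dl h L e2 (dl h L e3 x))) := by
    refine Fix.of_basis ?_ ?_ ?_
    · exact dl_dl h L e1 _
    · rw [dl_comm h L e1 e2]; exact dl_dl h L e2 _
    · rw [dl_comm h L e2 e3, dl_comm h L e1 e3]; exact dl_dl h L e3 _
  refine eq_zero_of_lam hQ hF ?_ ?_ ?_
  · exact lam_dl hQ e1 hF
  · have h1 := hF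
    rw [dl_comm h L e1 e2] at h1 ⊢
    exact lam_dl hQ e2 h1
  · have h1 := hF
    rw [dl_comm h L e2 e3, dl_comm h L e1 e3] at h1 ⊢
    exact lam_dl hQ e3 h1

theorem fix12 {h : Sit th O K0} {L : Large Q (th a0)} (hQ : ∀ v, th v ∈ Q → v = 0 ∨ v = a0) (x : L.V) :
    Fix h L (dl h L e1 (dl h L e2 x)) := by
  refine Fix.of_basis ?_ ?_ ?_
  · exact dl_dl h L e1 _
  · rw [dl_comm h L e1 e2]; exact dl_dl h L e2 _
  · rw [dl_comm h L e3 e1, dl_comm h L e3 e2]; exact lev3 hQ x

theorem fix13 {h : Sit th O K0} {L : Large Q (th a0)} (hQ : ∀ v, th v ∈ Q → v = 0 ∨ v = a0) (x : L.V) :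
    Fix h L (dl h L e1 (dl h L e3 x)) := by
  refine Fix.of_basis ?_ ?_ ?_
  · exact dl_dl h L e1 _
  · rw [dl_comm h L e2 e1]; exact lev3 hQ x
  · rw [dl_comm h L e1 e3]; exact dl_dl h L e3 _

theorem fix23 {h : Sit th O K0} {L : Large Q (th a0)} (hQ : ∀ v, th v ∈ Q → v = 0 ∨ v = a0) (x : L.V) :
    Fix h L (dl h L e2 (dl h L e3 x)) := by
  refine Fix.of_basis ?_ ?_ ?_
  · exact lev3 hQ x
  · exact dl_dl h L e2 _
  · rw [dl_comm h L e2 e3]; exact dl_dl h L e3 _

theorem fx1 {h : Sit th O K0} {L : Large Q (th a0)} (hQ : ∀ v, th v ∈ Q → v = 0 ∨ v = a0) (x : L.V) :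
    Fx2 h L (dl h L e1 x) := by
  refine Fx2.of_basis ?_ ?_ ?_
  · rw [dl_dl]; exact Fix.zero h L
  · rw [dl_comm h L e2 e1]; exact fix12 hQ x
  · rw [dl_comm h L e3 e1]; exact fix13 hQ x

theorem fx2 {h : Sit th O K0} {L : Large Q (th a0)} (hQ : ∀ v, th v ∈ Q → v = 0 ∨ v = a0) (x : L.V) :
    Fx2 h L (dl h L e2 x) := by
  refine Fx2.of_basis ?_ ?_ ?_
  · exact fix12 hQ x
  · rw [dl_dl]; exact Fix.zero h L
  · rw [dl_comm h L e3 e2]; exact fix23 hQ x

/-- the first parameter -/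
theorem lev2 {h : Sit th O K0} {L : Large Q (th a0)} (hQ : ∀ v, th v ∈ Q → v = 0 ∨ v = a0) {x : L.V}
    (ht : lam h L (dl h L e1 (dl h L e2 x)) e3 = 0) :
    dl h L e1 (dl h L e2 x) = 0 ∧ dl h L e1 (dl h L e3 x) = 0 ∧ dl h L e2 (dl h L e3 x) = 0 := by
  have a12 : lam h L (dl h L e1 (dl h L e2 x)) e1 = 0 := lam_dl hQ e1 (fix12 hQ x)
  have b12 : lam h L (dl h L e1 (dl h L e2 x)) e2 = 0 := by
    have h1 := fix12 hQ (h := h) x
    rw [dl_comm h L e1 e2] at h1 ⊢
    exact lam_dl hQ e2 h1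
  have a13 : lam h L (dl h L e1 (dl h L e3 x)) e1 = 0 := lam_dl hQ e1 (fix13 hQ x)
  have c13 : lam h L (dl h L e1 (dl h L e3 x)) e3 = 0 := by
    have h1 := fix13 hQ (h := h) x
    rw [dl_comm h L e1 e3] at h1 ⊢
    exact lam_dl hQ e3 h1
  have b23 : lam h L (dl h L e2 (dl h L e3 x)) e2 = 0 := lam_dl hQ e2 (fix23 hQ x)
  have c23 : lam h L (dl h L e2 (dl h L e3 x)) e3 = 0 := by
    have h1 := fix23 hQ (h := h) x
    rw [dl_comm h L e2 e3] at h1 ⊢
    exact lam_dl hQ e3 h1
  have b13 : lam h L (dl h L e1 (dl h L e3 x)) e2 = 0 := by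
    rw [dl_comm h L e1 e3, lam_symm hQ (fx1 hQ x) e3 e2, dl_comm h L e2 e1]
    exact ht
  have a23 : lam h L (dl h L e2 (dl h L e3 x)) e1 = 0 := by
    rw [dl_comm h L e2 e3, lam_symm hQ (fx2 hQ x) e3 e1]
    exact ht
  exact ⟨eq_zero_of_lam hQ (fix12 hQ x) a12 b12 ht, eq_zero_of_lam hQ (fix13 hQ x) a13 b13 c13,
    eq_zero_of_lam hQ (fix23 hQ x) a23 b23 c23⟩

theorem lev1 {h : Sit th O K0} {L : Large Q (th a0)} (hQ : ∀ v, th v ∈ Q → v = 0 ∨ v = a0) {x : L.V}
    (hx : Fx2 h L x) (h12 : lam h L (dl h L e1 x) e2 = 0) (h13 : lam h L (dl h L e1 x) e3 = 0)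
    (h23 : lam h L (dl h L e2 x) e3 = 0) : Fix h L x := by
  refine Fix.of_basis ?_ ?_ ?_
  · exact eq_zero_of_lam hQ (hx e1) (lam_dl hQ e1 (hx e1)) h12 h13
  · exact eq_zero_of_lam hQ (hx e2) (by rw [lam_symm hQ hx]; exact h12) (lam_dl hQ e2 (hx e2)) h23
  · exact eq_zero_of_lam hQ (hx e3) (by rw [lam_symm hQ hx]; exact h13) (by rw [lam_symm hQ hx]; exact h23)
      (lam_dl hQ e3 (hx e3))

/-! ### counting -/

theorem ncard_le_mul {M N : Type*} [AddCommGroup M] [Finite M] [Finite N] (f : M → N)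
    (S S' : Set M) (h : ∀ x ∈ S, ∀ y ∈ S, f x = f y → x + y ∈ S') : S.ncard ≤ Nat.card N * S'.ncard := by
  classical
  let c : N → M := fun n => if hn : ∃ y ∈ S, f y = n then hn.choose else 0
  have hc : ∀ x ∈ S, c (f x) ∈ S ∧ f (c (f x)) = f x := fun x hx => by
    have hn : ∃ y ∈ S, f y = f x := ⟨x, hx, rfl⟩
    change (if hn : ∃ y ∈ S, f y = f x then hn.choose else 0) ∈ S ∧
      f (if hn : ∃ y ∈ S, f y = f x then hn.choose else 0) = f x
    rw [dif_pos hn]
    exact hn.choose_spec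
  let F : S → N × S' := fun x => (f x, ⟨x.1 + c (f x), h _ x.2 _ (hc x x.2).1 (hc x x.2).2.symm⟩)
  have hF : Function.Injective F := by
    intro x y hxy
    have h2 : f x = f y := congrArg Prod.fst hxy
    have h3 : x.1 + c (f x) = y.1 + c (f y) := congrArg (fun t => (t.2 : M)) hxy
    rw [h2] at h3
    exact Subtype.ext (add_right_cancel h3)
  have := Nat.card_le_card_of_injective F hF
  rwa [Nat.card_prod, Nat.card_coe_set_eq, Nat.card_coe_set_eq] at this

theorem card_V_le [Finite K] (h : Sit th O K0) (L : Large Q (th a0)) (hQ : ∀ v, th v ∈ Q → v = 0 ∨ v = a0) :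
    Nat.card L.V ≤ 2 ^ 7 := by
  have c0 := ncard_le_mul (M := L.V) (fun x => lam h L (dl h L e1 (dl h L e2 x)) e3) Set.univ
    {x | lam h L (dl h L e1 (dl h L e2 x)) e3 = 0} (by
      intro x _ y _ hxy
      change lam h L (dl h L e1 (dl h L e2 (x + y))) e3 = 0
      rw [dl_add_right, dl_add_right, lam_add (fix12 hQ x) (fix12 hQ y)]
      have hxy' : lam h L (dl h L e1 (dl h L e2 x)) e3 = lam h L (dl h L e1 (dl h L e2 y)) e3 := hxy
      rw [hxy']; exact z2_add_self _)
  have hx2 : ∀ x : L.V, lam h L (dl h L e1 (dl h L e2 x)) e3 = 0 → Fx2 h L x := by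
    intro x hx
    obtain ⟨h12, h13, h23⟩ := lev2 hQ hx
    refine Fx2.of_basis (Fix.of_basis ?_ ?_ ?_) (Fix.of_basis ?_ ?_ ?_) (Fix.of_basis ?_ ?_ ?_)
    · exact dl_dl h L e1 x
    · rw [dl_comm]; exact h12
    · rw [dl_comm]; exact h13
    · exact h12
    · exact dl_dl h L e2 x
    · rw [dl_comm]; exact h23
    · exact h13
    · exact h23
    · exact dl_dl h L e3 x
  have c1 := ncard_le_mul (M := L.V)
    (fun x => (lam h L (dl h L e1 x) e2, lam h L (dl h L e1 x) e3, lam h L (dl h L e2 x) e3))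
    {x | lam h L (dl h L e1 (dl h L e2 x)) e3 = 0} {x | Fix h L x} (by
      intro x hx y hy hxy
      have hxx := hx2 x hx
      have hyy := hx2 y hy
      obtain ⟨h1, h2⟩ := Prod.ext_iff.1 hxy
      obtain ⟨h2, h3⟩ := Prod.ext_iff.1 h2
      change lam h L (dl h L e1 x) e2 = lam h L (dl h L e1 y) e2 at h1
      change lam h L (dl h L e1 x) e3 = lam h L (dl h L e1 y) e3 at h2
      change lam h L (dl h L e2 x) e3 = lam h L (dl h L e2 y) e3 at h3
      have hs : Fx2 h L (x + y) := fun v => by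
        rw [dl_add_right]; exact (hxx v).add (hyy v)
      refine lev1 hQ hs ?_ ?_ ?_
      · rw [dl_add_right, lam_add (hxx _) (hyy _), h1]; exact z2_add_self _
      · rw [dl_add_right, lam_add (hxx _) (hyy _), h2]; exact z2_add_self _
      · rw [dl_add_right, lam_add (hxx _) (hyy _), h3]; exact z2_add_self _)
  have c2 := ncard_le_mul (M := L.V)
    (fun x => (lam h L x e1, lam h L x e2, lam h L x e3)) {x | Fix h L x} {0} (by
      intro x hx y hy hxy
      obtain ⟨h1, h2⟩ := Prod.ext_iff.1 hxy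
      obtain ⟨h2, h3⟩ := Prod.ext_iff.1 h2
      change lam h L x e1 = lam h L y e1 at h1
      change lam h L x e2 = lam h L y e2 at h2
      change lam h L x e3 = lam h L y e3 at h3
      refine eq_zero_of_lam hQ (Fix.add hx hy) ?_ ?_ ?_
      · rw [lam_add hx hy, h1]; exact z2_add_self _
      · rw [lam_add hx hy, h2]; exact z2_add_self _
      · rw [lam_add hx hy, h3]; exact z2_add_self _)
  rw [Set.ncard_univ] at c0
  rw [Set.ncard_singleton] at c2
  have n2 : Nat.card (ZMod 2) = 2 := by rw [Nat.card_eq_fintype_card, ZMod.card]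
  rw [n2] at c0
  rw [Nat.card_prod, Nat.card_prod, n2] at c1 c2
  omega

/-- the case `A ≤ Q` -/
theorem card_of_le [Finite K] (h : Sit th O K0) (L : Large Q (th a0)) (hQ : ∀ v, th v ∈ Q) : Nat.card Q ≤ 2 ^ 7 := by
  classical
  have hfn : ∀ x : Q, ∃ f : V → ZMod 2, Fn th (x : K) f := by
    intro x
    have h1 : ∀ v, (x : K) * th v * (x : K)⁻¹ = th v ∨ (x : K) * th v * (x : K)⁻¹ = th (v + a0) := by
      intro v
      rcases L.comm x x.2 (th v) (hQ v) with h1 | h1
      · left; rw [h1, mul_inv_cancel_right]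
      · right
        have h2 : (x : K) * th a0 = th a0 * x := L.comm_z x x.2
        rw [h1, mul_assoc (th v), h2, ← mul_assoc, mul_inv_cancel_right, h.add]
    refine ⟨fun v => if (x : K) * th v * (x : K)⁻¹ = th v then 0 else 1, fun v => ?_⟩
    change _ = th (v + (if (x : K) * th v * (x : K)⁻¹ = th v then (0 : ZMod 2) else 1) • a0)
    rcases h1 v with h3 | h3
    · rw [if_pos h3, zero_smul, add_zero, h3]
    · rw [if_neg, one_smul, h3]
      intro h4
      rw [h3] at h4
      have h5 := h.inj h4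
      rw [add_eq_left] at h5
      exact a0_ne h5
  choose f hf using hfn
  let F : Q → (ZMod 2 × ZMod 2 × ZMod 2) := fun x => (f x e1, f x e2, f x e3)
  let c : (ZMod 2 × ZMod 2 × ZMod 2) → Q := fun n => if hn : ∃ y, F y = n then hn.choose else 1
  have hc : ∀ x, F (c (F x)) = F x := fun x => by
    have hn : ∃ y, F y = F x := ⟨x, rfl⟩
    change F (if hn : ∃ y, F y = F x then hn.choose else 1) = F x
    rw [dif_pos hn]
    exact hn.choose_spec
  have hA : ∀ x y : Q, F x = F y → ((x * y⁻¹ : Q) : K) ∈ h.A := by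
    intro x y hxy
    obtain ⟨h1, h2⟩ := Prod.ext_iff.1 hxy
    obtain ⟨h2, h3⟩ := Prod.ext_iff.1 h2
    change f x e1 = f y e1 at h1
    change f x e2 = f y e2 at h2
    change f x e3 = f y e3 at h3
    have h4 : f x = f y := by
      funext v
      rw [(hf x).eq_dt h (L.comm_z x x.2), (hf y).eq_dt h (L.comm_z y y.2), h1, h2, h3]
    refine h.mem_of_sq (n := 2) (fun v => ?_) ?_
    · have h5 : (x : K) * th v * (x : K)⁻¹ = (y : K) * th v * (y : K)⁻¹ := by rw [hf x, hf y, h4]
      -- apply at the preimage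
      have h6 : ∀ u, (y : K)⁻¹ * x * th u = th u * ((y : K)⁻¹ * x) := by
        intro u
        have h5 : (x : K) * th u * (x : K)⁻¹ = (y : K) * th u * (y : K)⁻¹ := by rw [hf x, hf y, h4]
        calc (y : K)⁻¹ * x * th u = (y : K)⁻¹ * ((x : K) * th u * (x : K)⁻¹) * x := by group
          _ = (y : K)⁻¹ * ((y : K) * th u * (y : K)⁻¹) * x := by rw [h5]
          _ = _ := by group
      have h7 : (y : K)⁻¹ * th v * y = th (v + f y v • a0) := by
        have h8 := hf y (v + f y v • a0)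
        have h9 : f y (v + f y v • a0) = f y v := by
          rcases z2 (f y v) with h9 | h9
          · rw [h9, zero_smul, add_zero, h9]
          · rw [h9, one_smul, (hf y).add h, (hf y).zero_a0 h (L.comm_z y y.2), add_zero, h9]
        rw [h9, add_assoc, ← add_smul, z2_add_self, zero_smul, add_zero] at h8
        rw [← h8]; group
      change (x : K) * (y : K)⁻¹ * th v = th v * (x * (y : K)⁻¹)
      calc (x : K) * (y : K)⁻¹ * th v = y * ((y : K)⁻¹ * x * ((y : K)⁻¹ * th v * y)) * (y : K)⁻¹ := by group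
        _ = y * (((y : K)⁻¹ * th v * y) * ((y : K)⁻¹ * x)) * (y : K)⁻¹ := by rw [h7, h6]
        _ = _ := by group
    · have h2 : ((x * y⁻¹ : Q) : K) ^ (2 ^ 2) = (((x * y⁻¹ : Q) : K) * ((x * y⁻¹ : Q) : K)) *
          (((x * y⁻¹ : Q) : K) * ((x * y⁻¹ : Q) : K)) := by
        rw [show (2 : ℕ) ^ 2 = 2 * 2 from rfl, pow_mul, pow_two, pow_two]
      rw [h2]
      rcases L.sq _ (x * y⁻¹).2 with h3 | h3 <;> rw [h3]
      · rw [one_mul]
      · exact h.sq a0
  let G : Q → (ZMod 2 × ZMod 2 × ZMod 2) × h.A := fun x => (F x, ⟨_, hA x (c (F x)) (hc x).symm⟩)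
  have hG : Function.Injective G := by
    intro x y hxy
    have h2 : F x = F y := congrArg Prod.fst hxy
    have h3 : ((x * (c (F x))⁻¹ : Q) : K) = ((y * (c (F y))⁻¹ : Q) : K) := congrArg (fun t => (t.2 : K)) hxy
    rw [h2] at h3
    exact mul_right_cancel (Subtype.ext h3)
  have := Nat.card_le_card_of_injective G hG
  have n2 : Nat.card (ZMod 2) = 2 := by rw [Nat.card_eq_fintype_card, ZMod.card]
  rw [Nat.card_prod, Nat.card_prod, Nat.card_prod, n2, h.card_A] at this
  omega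

theorem card_le [Finite K] (h : Sit th O K0) (L : Large Q (th a0)) : Nat.card Q ≤ 2 ^ 8 := by
  rcases h.inter_cases a0_ne Q (fun k _ hk x hx => L.conj_mem k hk x hx) with h1 | h1 | h1
  · exact absurd ((h1 a0).1 L.z_mem) a0_ne
  · have := card_V_le h L fun v hv => (h1 v).1 hv
    rw [L.card_eq]
    omega
  · exact (card_of_le h L h1).trans (by norm_num)

end

end Cfsg.Agent.H207.LinFour
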