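import Cfsg.Agent.H207.LinFour.Base
import Cfsg.Agent.H207.LinFour.Ext2
import Cfsg.Agent.Co2Type.Quad
import Cfsg.Agent.NotCT.Orders
import Cfsg.Agent.H848.SpSixRows
import Cfsg.Agent.H813.CoLarge
import Cfsg.Agent.SevenCases.SporTh
import Cfsg.Agent.SevenCases.SporJ4
import Cfsg.Agent.KFacts.CoTwo.RLarge

/-!
# S1918: the sporadic groups with a large extraspecial subgroup (helper207)
-/

set_option autoImplicit false

namespace Cfsg.Agent.H207.LinFour

open Subgroup Cfsg Cfsg.Agent.H336.LinFour Cfsg.Agent.Co2Type.Quad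

theorem false_of_large {K : Type*} [Group K] [Finite K] {th : V → K} {O K0 : Subgroup K} (h : Sit th O K0) {z : K}
    {Q : Subgroup K} (L : Large Q z) (hQ : 2 ^ 9 ≤ Nat.card Q) : False := by
  obtain ⟨g, hg⟩ := h.exists_conj_of_odd_index L.z_ne (n := 1) (by rw [pow_one, pow_two]; exact L.z_sq)
    (H848.SpSixLarge.odd_of_large L) a0_ne
  have hL := L.conj g
  have hc : Nat.card (Q.map (MulAut.conj g).toMonoidHom) = Nat.card Q :=
    (Nat.card_congr (Q.equivMapOfInjective _ (MulAut.conj g).injective).toEquiv).symm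
  generalize hQ' : Q.map (MulAut.conj g).toMonoidHom = Q' at hL hc
  rw [hg] at hL
  have := card_le h hL
  omega

section

variable {K : Type*} [Group K] {th : V → K} {O K0 : Subgroup K}

theorem co1 (hK : Spor.IsoCo1 K) (h : Sit th O K0) : False := by
  obtain ⟨e⟩ := hK
  have hcard : Nat.card Spor.Co1 = 4157776806543360000 := NotCT.Orders.co1 ⟨MulEquiv.refl _⟩
  have hf : Finite Spor.Co1 := Nat.finite_of_card_ne_zero (by rw [hcard]; norm_num)
  exact false_of_large (h.equiv e) H813.CoLarge.large (by rw [StdG24.ExInst.card_Q]; norm_num)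

theorem co2 (hK : Spor.IsoCo2 K) (h : Sit th O K0) : False := by
  obtain ⟨e⟩ := hK
  have hcard : Nat.card Spor.Co2 = 42305421312000 := NotCT.Orders.co2 ⟨MulEquiv.refl _⟩
  have hf : Finite Spor.Co2 := Nat.finite_of_card_ne_zero (by rw [hcard]; norm_num)
  exact false_of_large (h.equiv e) KFacts.CoTwo.RLarge.large (by rw [KFacts.CoTwo.RLarge.card_R])

theorem thompson (hK : Spor.IsoTh K) (h : Sit th O K0) : False := by
  obtain ⟨e⟩ := hK
  have := Cfsg.Agent.KFacts.Th.Main.finite
  exact false_of_large (h.equiv e) SevenCases.SporTh.large (le_of_eq Cfsg.Agent.KFacts.Th.Main.ctx.cardQ.symm)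

theorem j4 (hK : Spor.IsoJ4 K) (h : Sit th O K0) : False := by
  obtain ⟨h1, h2, ⟨F⟩⟩ := KFacts.J4.Base.exists_full hK
  exact false_of_large h (J4Type.FusionCent.large F.C.toCent) (by rw [F.C.Q_card]; norm_num)

theorem fi24 (hK : Spor.IsoFi24' K) (h : Sit th O K0) : False := by
  obtain ⟨e⟩ := hK
  have : Finite Spor.Fi24' := Nat.finite_of_card_ne_zero (by rw [H848.SpSixRows.card_fi]; norm_num)
  exact false_of_large (h.equiv e) H848.SpSixRows.large_fi (by rw [CTwoTab.FiTF.R0_card]; norm_num)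

theorem monster (hK : Spor.IsoM K) (h : Sit th O K0) : False := by
  obtain ⟨e⟩ := hK
  have := H848.MonsterSetup.finite
  obtain ⟨Q, z, eta, pi, c⟩ := H848.MonsterSetup.exists_chart
  have hc : Nat.card Q = 2 ^ 25 := c.card_Q
  exact false_of_large (h.equiv e) c.large (by rw [hc]; norm_num)

open Cfsg.Agent.BabyM Cfsg.Agent.BabyM.Model Cfsg.Agent.BabyU.ClosModel
open Cfsg.Agent.BabyU.ClosLane Cfsg.Agent.KFacts in
theorem baby (hK : Spor.IsoB K) (h : Sit th O K0) : False := by
  obtain ⟨e⟩ := hK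
  have := A.finite_G
  exact false_of_large (h.equiv (e.trans BM.KHAll.iso)) (Baby.Inst.large A)
    (by rw [H848.SpSixRows.card_baby]; norm_num)

end

end Cfsg.Agent.H207.LinFour
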