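import Cfsg.Agent.H336.LinFour.Basic
import Cfsg.Agent.Co2Type.Quad

/-!
# S1918: `Sit` and large extraspecial groups (helper207)

`card_le` : `Large Q (th a0)` implies `|Q| ≤ 2 ^ 8`.

`A` acts on `Q / z`; the vectors fixed by `A` embed into the dual of `A / z`, and the third iterated commutators
vanish.
-/

set_option autoImplicit false

namespace Cfsg.Agent.H207.LinFour

open Subgroup Cfsg.Agent.H336.LinFour Cfsg.Agent.Co2Type.Quad

/-- the special vector -/
def a0 : V := ![1, 0, 0, 0]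
/-- basis -/
def e1 : V := ![0, 1, 0, 0]
/-- basis -/
def e2 : V := ![0, 0, 1, 0]
/-- basis -/
def e3 : V := ![0, 0, 0, 1]

theorem a0_ne : a0 ≠ 0 := by decide

theorem v_sum (v : V) : v = v 0 • a0 + (v 1 • e1 + (v 2 • e2 + v 3 • e3)) := by
  funext i
  fin_cases i <;> simp [a0, e1, e2, e3]

theorem exists_map_dual_fix {a c d : V} (hc : c ≠ 0) (hd : d ≠ 0) (hca : dt c a = 0) (hda : dt d a = 0) :
    ∃ g : V ≃+ V, g a = a ∧ ∀ v, dt c (g v) = dt d v := by
  by_cases hcd : c = d
  · exact ⟨AddEquiv.refl V, rfl, fun v => by rw [hcd]; rfl⟩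
  obtain ⟨b, h1, h2⟩ := exists_dt_pair hc hd hcd 1 1
  rw [dt_comm] at h1 h2
  refine ⟨tv (c + d) b (by rw [dt_add_left, h1, h2]; decide), ?_, fun v => ?_⟩
  · exact tv_of_zero _ (by rw [dt_add_left, hca, hda]; decide)
  · rw [dt_tv, h1, one_smul, self_add_add]

section

variable {K : Type*} [Group K] {th : V → K} {O K0 Q : Subgroup K}

/-- the functional of an element normalising `A` modulo `z` -/
def Fn (th : V → K) (x : K) (f : V → ZMod 2) : Prop := ∀ v, x * th v * x⁻¹ = th (v + f v • a0)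

theorem smul_a0_inj {x y : ZMod 2} {v : V} (h : v + x • a0 = v + y • a0) : x = y := by
  have h1 := add_left_cancel h
  have h2 := congrFun h1 0
  simpa [a0] using h2

theorem Fn.zero_a0 (h : Sit th O K0) {x : K} (hx : x * th a0 = th a0 * x) {f : V → ZMod 2} (hf : Fn th x f) :
    f a0 = 0 := by
  have h1 := hf a0
  rw [hx, mul_inv_cancel_right] at h1
  have h2 := h.inj h1
  have h3 : a0 + (0 : ZMod 2) • a0 = a0 + f a0 • a0 := by rw [zero_smul, add_zero]; exact h2
  exact (smul_a0_inj h3).symm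

theorem Fn.add (h : Sit th O K0) {x : K} {f : V → ZMod 2} (hf : Fn th x f) (u v : V) : f (u + v) = f u + f v := by
  have h1 := hf (u + v)
  rw [h.add] at h1
  have h2 : x * (th u * th v) * x⁻¹ = (x * th u * x⁻¹) * (x * th v * x⁻¹) := by group
  rw [h2, hf, hf, ← h.add] at h1
  have h3 := h.inj h1
  have h4 : u + v + (f u + f v) • a0 = u + v + f (u + v) • a0 := by
    rw [← h3, add_smul]; abel
  exact (smul_a0_inj h4).symm

theorem Fn.unique (h : Sit th O K0) {x : K} {f g : V → ZMod 2} (hf : Fn th x f) (hg : Fn th x g) : f = g := by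
  funext v
  exact smul_a0_inj (h.inj ((hf v).symm.trans (hg v)))

theorem Fn.mul (h : Sit th O K0) {x y : K} (hx : x * th a0 = th a0 * x) {f g : V → ZMod 2} (hf : Fn th x f)
    (hg : Fn th y g) : Fn th (x * y) (fun v => f v + g v) := by
  intro v
  have h1 : x * y * th v * (x * y)⁻¹ = x * (y * th v * y⁻¹) * x⁻¹ := by group
  rw [h1, hg, hf]
  congr 1
  have h2 : f (v + g v • a0) = f v := by
    rw [hf.add h]
    rcases z2 (g v) with h3 | h3
    · rw [h3, zero_smul]
      have := hf.add h 0 0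
      rw [add_zero, left_eq_add] at this
      rw [this, add_zero]
    · rw [h3, one_smul, hf.zero_a0 h hx, add_zero]
  rw [h2, add_smul]; abel

theorem Fn.eq_zero (h : Sit th O K0) (L : Large Q (th a0)) (hQ : ∀ v, th v ∈ Q → v = 0 ∨ v = a0) {x : K} (hx : x ∈ Q)
    (hf : Fn th x (fun _ => 0)) : x = 1 ∨ x = th a0 := by
  have h1 : ∀ v, x * th v = th v * x := by
    intro v
    have := hf v
    rw [zero_smul, add_zero, mul_inv_eq_iff_eq_mul] at this
    exact this
  obtain ⟨v, hv⟩ := h.mem_of_sq h1 (n := 2) (by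
    have h2 : x ^ (2 ^ 2) = (x * x) * (x * x) := by
      rw [show (2 : ℕ) ^ 2 = 2 * 2 from rfl, pow_mul, pow_two, pow_two]
    rw [h2]
    rcases L.sq x hx with h3 | h3 <;> rw [h3]
    · rw [one_mul]
    · exact h.sq a0)
  rcases hQ v (by rw [hv]; exact hx) with h2 | h2
  · left; rw [← hv, h2, h.zero]
  · right; rw [← hv, h2]

/-- transport of functionals -/
theorem Fn.conj {x k : K} {f : V → ZMod 2} (hf : Fn th x f) {g : V ≃+ V} (hk : ∀ v, k * th v * k⁻¹ = th (g v))
    (ha : g a0 = a0) : Fn th (k * x * k⁻¹) (fun v => f (g.symm v)) := by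
  intro v
  obtain ⟨w, rfl⟩ := g.surjective v
  change _ = th (g w + f (g.symm (g w)) • a0)
  rw [g.symm_apply_apply, ← hk]
  have h1 : k * x * k⁻¹ * (k * th w * k⁻¹) * (k * x * k⁻¹)⁻¹ = k * (x * th w * x⁻¹) * k⁻¹ := by group
  rw [h1, hf, hk, map_add]
  congr 1
  rcases z2 (f w) with h2 | h2
  · rw [h2, zero_smul, map_zero]
  · rw [h2, one_smul, ha]

theorem Fn.eq_dt (h : Sit th O K0) {x : K} (hx : x * th a0 = th a0 * x) {f : V → ZMod 2} (hf : Fn th x f) (v : V) :
    f v = dt ![0, f e1, f e2, f e3] v := by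
  have hs : ∀ (c : ZMod 2) (u : V), f (c • u) = c * f u := by
    intro c u
    rcases z2 c with h1 | h1
    · rw [h1, zero_smul, zero_mul]
      have := hf.add h 0 0
      rwa [add_zero, left_eq_add] at this
    · rw [h1, one_smul, one_mul]
  conv_lhs => rw [v_sum v]
  rw [hf.add h, hf.add h, hf.add h, hs, hs, hs, hs, hf.zero_a0 h hx]
  simp only [dt, Matrix.cons_val_zero, Matrix.cons_val_one, Matrix.cons_val]
  ring

theorem mul_eq_z {x y z : K} (h : x = y * z) (hz : z * z = 1) : y = x * z := by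
  rw [h, mul_assoc, hz, mul_one]

/-- the elements of `Q` fixed modulo `z` are involutions -/
theorem sq_of_fn (h : Sit th O K0) (L : Large Q (th a0)) (hQ : ∀ v, th v ∈ Q → v = 0 ∨ v = a0) {x : K} (hx : x ∈ Q)
    {f : V → ZMod 2} (hf : Fn th x f) : x * x = 1 := by
  by_contra hne
  have hxz : x * x = th a0 := (L.sq x hx).resolve_left hne
  have hc0 : (![0, f e1, f e2, f e3] : V) ≠ 0 := by
    intro h0
    have h1 : Fn th x (fun _ => 0) := by
      have : f = fun _ => 0 := by
        funext v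
        rw [hf.eq_dt h (L.comm_z x hx) v, h0, dt_zero_left]
      rw [← this]; exact hf
    rcases h1.eq_zero h L hQ hx with h2 | h2
    · exact hne (by rw [h2, one_mul])
    · exact hne (by rw [h2]; exact h.sq a0)
  have key : ∀ c : V, c ≠ 0 → c 0 = 0 → ∃ y : Q, (y : K) * y = th a0 ∧ Fn th (y : K) (dt c) := by
    intro c hc hc1
    obtain ⟨g, hga, hg⟩ := exists_map_dual_fix (a := a0) hc hc0 (by simp [dt, a0, hc1]) (by simp [dt, a0])
    obtain ⟨k, hk, hk'⟩ := h.full g
    have hka : k * th a0 * k⁻¹ = th a0 := by rw [hk', hga]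
    refine ⟨⟨k * x * k⁻¹, L.conj_mem k (by rw [mul_inv_eq_iff_eq_mul] at hka; exact hka) x hx⟩, ?_, ?_⟩
    · change k * x * k⁻¹ * (k * x * k⁻¹) = th a0
      rw [← hka, ← hxz]; group
    · have h1 := hf.conj hk' hga
      have h2 : (fun v => f (g.symm v)) = dt c := by
        funext v
        obtain ⟨w, rfl⟩ := g.surjective v
        rw [g.symm_apply_apply, hg w]
        exact hf.eq_dt h (L.comm_z x hx) w
      rw [h2] at h1
      exact h1
  have q1 : ∀ c : V, c ≠ 0 → c 0 = 0 → ∀ y : Q, Fn th (y : K) (dt c) → L.q (L.pr y) = 1 := by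
    intro c hc hc1 y hy
    obtain ⟨y', hy1, hy2⟩ := key c hc hc1
    have h1 : Fn th ((y : K) * y') (fun _ => 0) := by
      have := hy.mul h (L.comm_z y y.2) hy2
      have e : (fun v => dt c v + dt c v) = fun _ => 0 := by
        funext v; exact z2_add_self _
      rwa [e] at this
    rw [L.q_eq_one]
    have hy'2 : (y' : K)⁻¹ = y' * th a0 := by
      rw [inv_eq_iff_mul_eq_one, ← mul_assoc, hy1, h.sq]
    rcases h1.eq_zero h L hQ (Q.mul_mem y.2 y'.2) with h2 | h2
    · have h3 : (y : K) = y' * th a0 := by rw [← hy'2]; exact eq_inv_of_mul_eq_one_left h2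
      rw [h3, mul_assoc, ← mul_assoc (th a0), ← L.comm_z y' y'.2, mul_assoc (y' : K) (th a0), h.sq, mul_one, hy1]
    · have h3 : (y : K) = y' := by
        have : (y : K) = th a0 * (y' : K)⁻¹ := by rw [← h2, mul_inv_cancel_right]
        rw [this, hy'2, ← mul_assoc, ← L.comm_z y' y'.2, mul_assoc, h.sq, mul_one]
      rw [h3, hy1]
  obtain ⟨y1, -, h1⟩ := key e1 (by decide) (by decide)
  obtain ⟨y2, -, h2⟩ := key e2 (by decide) (by decide)
  obtain ⟨y3, -, h3⟩ := key e3 (by decide) (by decide)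
  have hm : ∀ {c d : V} {y y' : Q}, Fn th (y : K) (dt c) → Fn th (y' : K) (dt d) →
      Fn th ((y * y' : Q) : K) (dt (c + d)) := by
    intro c d y y' hy hy'
    have := hy.mul h (L.comm_z y y.2) hy'
    have e : (fun v => dt c v + dt d v) = dt (c + d) := by funext v; rw [dt_add_left]
    rwa [e] at this
  have b1 : ∀ {c d : V} {y y' : Q}, c ≠ 0 → d ≠ 0 → c ≠ d → c 0 = 0 → d 0 = 0 → Fn th (y : K) (dt c) →
      Fn th (y' : K) (dt d) → L.b (L.pr y) (L.pr y') = 1 := by
    intro c d y y' hc hd hcd hc0 hd0 hy hy'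
    have h4 := L.q_add' (L.pr y) (L.pr y')
    rw [← L.pr_mul, q1 c hc hc0 y hy, q1 d hd hd0 y' hy', q1 (c + d) (fun hh => hcd ((add_eq_zero_iff _ _).1 hh))
      (by rw [Pi.add_apply, hc0, hd0, add_zero]) (y * y') (hm hy hy')] at h4
    have h5 : (1 : ZMod 2) + 1 = 0 := by decide
    rw [h5, zero_add] at h4
    exact h4.symm
  have h12 := b1 (by decide) (by decide) (by decide) (by decide) (by decide) h1 h2
  have h13 := b1 (by decide) (by decide) (by decide) (by decide) (by decide) h1 h3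
  have h123 := b1 (c := e1) (d := e2 + e3) (by decide) (by decide) (by decide) (by decide) (by decide) h1 (hm h2 h3)
  rw [L.pr_mul, map_add, h12, h13] at h123
  exact absurd h123 (by decide)

end

end Cfsg.Agent.H207.LinFour
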