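import Cfsg.Agent.H336.LinFour.Basic
import Cfsg.Agent.H336.LinFour.Equiv
import Cfsg.Agent.S0512

/-!
# S1918: groups with Sylow 2-subgroups of order `2 ^ 10` (helper207)

`ten` : a simple group `K` with `Sit th O K0` and `¬ 2 ^ 11 ∣ |K|` is `L₅(2)`, `M₂₄` or `He`.
-/

set_option autoImplicit false

namespace Cfsg.Agent.H207.LinFour

open Subgroup Cfsg Cfsg.Agent.H336.LinFour

/-! ### affine maps as matrices -/

/-- the matrix of an affine map -/
def aff (g : Matrix (Fin 4) (Fin 4) (ZMod 2)) (u : V) : Matrix (Fin 5) (Fin 5) (ZMod 2) := fun i j =>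
  Fin.lastCases (motive := fun _ => ZMod 2) (Fin.lastCases (motive := fun _ => ZMod 2) 1 (fun _ => 0) j)
    (fun i => Fin.lastCases (motive := fun _ => ZMod 2) (u i) (fun j => g i j) j) i

theorem aff_cc (g : Matrix (Fin 4) (Fin 4) (ZMod 2)) (u : V) (i j : Fin 4) : aff g u i.castSucc j.castSucc = g i j := by
  simp [aff]

theorem aff_cl (g : Matrix (Fin 4) (Fin 4) (ZMod 2)) (u : V) (i : Fin 4) : aff g u i.castSucc (Fin.last 4) = u i := by
  unfold aff
  rw [Fin.lastCases_castSucc, Fin.lastCases_last]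

theorem aff_lc (g : Matrix (Fin 4) (Fin 4) (ZMod 2)) (u : V) (j : Fin 4) : aff g u (Fin.last 4) j.castSucc = 0 := by
  unfold aff
  rw [Fin.lastCases_last, Fin.lastCases_castSucc]

theorem aff_ll (g : Matrix (Fin 4) (Fin 4) (ZMod 2)) (u : V) : aff g u (Fin.last 4) (Fin.last 4) = 1 := by
  unfold aff
  rw [Fin.lastCases_last, Fin.lastCases_last]

theorem ext5 {A B : Matrix (Fin 5) (Fin 5) (ZMod 2)} (h1 : ∀ i j : Fin 4, A i.castSucc j.castSucc = B i.castSucc j.castSucc)
    (h2 : ∀ i : Fin 4, A i.castSucc (Fin.last 4) = B i.castSucc (Fin.last 4))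
    (h3 : ∀ j : Fin 4, A (Fin.last 4) j.castSucc = B (Fin.last 4) j.castSucc)
    (h4 : A (Fin.last 4) (Fin.last 4) = B (Fin.last 4) (Fin.last 4)) : A = B := by
  ext i j
  refine Fin.lastCases ?_ (fun i => ?_) i <;> refine Fin.lastCases ?_ (fun j => ?_) j
  · exact h4
  · exact h3 j
  · exact h2 i
  · exact h1 i j

theorem aff_mul (g k : Matrix (Fin 4) (Fin 4) (ZMod 2)) (u v : V) :
    aff g u * aff k v = aff (g * k) (u + g.mulVec v) := by
  apply ext5
  · intro i j
    rw [Matrix.mul_apply, Fin.sum_univ_castSucc, aff_cc, Matrix.mul_apply]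
    simp only [aff_cc, aff_cl, aff_lc, mul_zero, add_zero]
  · intro i
    rw [Matrix.mul_apply, Fin.sum_univ_castSucc]
    simp only [aff_cc, aff_cl, aff_ll, mul_one, Pi.add_apply, Matrix.mulVec, dotProduct]
    rw [add_comm]
  · intro j
    rw [Matrix.mul_apply, Fin.sum_univ_castSucc]
    simp only [aff_cc, aff_lc, aff_ll, mul_zero, zero_mul, Finset.sum_const_zero, add_zero]
  · rw [Matrix.mul_apply, Fin.sum_univ_castSucc]
    simp only [aff_cl, aff_lc, aff_ll, mul_one, zero_mul, Finset.sum_const_zero, zero_add]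

theorem aff_one : aff 1 0 = 1 := by
  apply ext5
  · intro i j
    rw [aff_cc, Matrix.one_apply, Matrix.one_apply]
    simp only [Fin.castSucc_inj]
  · intro i
    rw [aff_cl, Matrix.one_apply, if_neg (Fin.castSucc_lt_last i).ne]; rfl
  · intro j
    rw [aff_lc, Matrix.one_apply, if_neg (Fin.castSucc_lt_last j).ne']
  · rw [aff_ll, Matrix.one_apply_eq]

theorem aff_inj {g k : Matrix (Fin 4) (Fin 4) (ZMod 2)} {u v : V} (h : aff g u = aff k v) : g = k ∧ u = v := by
  constructor
  · ext i j
    rw [← aff_cc g u, ← aff_cc k v, h]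
  · funext i
    rw [← aff_cl g u, ← aff_cl k v, h]

/-- translations -/
noncomputable def tr : Multiplicative V →* GL (Fin 5) (ZMod 2) := MonoidHom.toHomUnits
  { toFun := fun u => aff 1 (Multiplicative.toAdd u)
    map_one' := aff_one
    map_mul' := fun u v => by
      rw [aff_mul, one_mul, Matrix.one_mulVec]; rfl }

theorem tr_val (u : Multiplicative V) : (tr u : Matrix (Fin 5) (Fin 5) (ZMod 2)) = aff 1 (Multiplicative.toAdd u) := rfl

/-- linear maps -/
noncomputable def ln : S →* GL (Fin 5) (ZMod 2) := MonoidHom.toHomUnits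
  { toFun := fun g => aff (g : Matrix (Fin 4) (Fin 4) (ZMod 2)) 0
    map_one' := aff_one
    map_mul' := fun g k => by
      rw [aff_mul, Matrix.mulVec_zero, add_zero]; rfl }

theorem ln_val (g : S) : (ln g : Matrix (Fin 5) (Fin 5) (ZMod 2)) = aff (g : Matrix (Fin 4) (Fin 4) (ZMod 2)) 0 := rfl

/-- the action -/
noncomputable def phS : S →* MulAut (Multiplicative V) where
  toFun s := AddEquiv.toMultiplicative (actE s)
  map_one' := by
    refine MulEquiv.ext fun v => ?_
    change Multiplicative.ofAdd (act 1 (Multiplicative.toAdd v)) = v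
    rw [act_one]; rfl
  map_mul' s t := by
    refine MulEquiv.ext fun v => ?_
    change Multiplicative.ofAdd (act (s * t) (Multiplicative.toAdd v)) = _
    rw [act_mul]; rfl

theorem phS_apply (s : S) (v : Multiplicative V) : phS s v = Multiplicative.ofAdd (act s (Multiplicative.toAdd v)) := rfl

section

variable {K : Type*} [Group K] {th : V → K} {O K0 : Subgroup K}

/-- the representation on `K0` -/
noncomputable def rp (h : Sit th O K0) : K0 →* S := h.rep.comp (inclusion h.K0_le)

theorem rp_spec (h : Sit th O K0) (k : K0) (v : V) : (k : K) * th v * (k : K)⁻¹ = th (act (rp h k) v) :=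
  h.rep_spec ⟨k, h.K0_le k.2⟩ v

/-- the semidirect product -/
abbrev X (h : Sit th O K0) : Type _ := Multiplicative V ⋊[phS.comp (rp h)] K0

/-- into `K` -/
noncomputable def toK (h : Sit th O K0) : X h →* K :=
  SemidirectProduct.lift (MonoidHom.mk' (fun v => th (Multiplicative.toAdd v)) (fun u v => h.add _ _)) K0.subtype (by
    intro k
    ext v
    change th (act (rp h k) (Multiplicative.toAdd v)) = (k : K) * th (Multiplicative.toAdd v) * (k : K)⁻¹
    rw [rp_spec])

theorem toK_apply (h : Sit th O K0) (x : X h) : toK h x = th (Multiplicative.toAdd x.left) * (x.right : K) := rfl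

theorem toK_injective (h : Sit th O K0) : Function.Injective (toK h) := by
  rw [injective_iff_map_eq_one]
  intro x hx
  rw [toK_apply] at hx
  have h1 : (x.right : K) = th (Multiplicative.toAdd x.left) := by
    rw [← h.inv, eq_inv_of_mul_eq_one_right hx]
  have h2 : (x.right : K) ∈ O := h.k0c _ x.right.2 fun v => by rw [h1]; exact h.comm _ _
  have h3 : Multiplicative.toAdd x.left = 0 := by
    by_contra h4
    have h5 : orderOf (th (Multiplicative.toAdd x.left)) = 2 := by
      apply orderOf_eq_prime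
      · rw [pow_two]; exact h.sq _
      · rw [Ne, h.eq_one_iff]; exact h4
    have h6 : orderOf (⟨(x.right : K), h2⟩ : O) ∣ Nat.card O := orderOf_dvd_natCard _
    rw [← Subgroup.orderOf_coe] at h6
    change orderOf (x.right : K) ∣ _ at h6
    rw [h1, h5] at h6
    exact (Nat.not_even_iff_odd.2 h.odd) (even_iff_two_dvd.2 h6)
  have h7 : (x.right : K) = 1 := by rw [h1, h3, h.zero]
  apply SemidirectProduct.ext
  · exact h3
  · exact Subtype.ext h7

/-- into `GL₅(2)` -/
noncomputable def toG (h : Sit th O K0) : X h →* GL (Fin 5) (ZMod 2) :=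
  SemidirectProduct.lift tr (ln.comp (rp h)) (by
    intro k
    refine MonoidHom.ext fun v => ?_
    change tr (phS (rp h k) v) = ln (rp h k) * tr v * (ln (rp h k))⁻¹
    rw [eq_mul_inv_iff_mul_eq]
    apply Units.ext
    rw [Units.val_mul, Units.val_mul, tr_val, tr_val, ln_val, aff_mul, aff_mul, one_mul, mul_one, Matrix.one_mulVec,
      add_zero, zero_add]
    rfl)

theorem toG_apply (h : Sit th O K0) (x : X h) : toG h x = tr x.left * ln (rp h x.right) := rfl

theorem toG_one (h : Sit th O K0) {x : X h} (hx : toG h x = 1) : x.left = 1 ∧ (x.right : K) ∈ O := by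
  have h1 := congrArg (fun g : GL (Fin 5) (ZMod 2) => (g : Matrix (Fin 5) (Fin 5) (ZMod 2))) hx
  simp only [toG_apply, Units.val_mul, Units.val_one] at h1
  rw [tr_val, ln_val, aff_mul, one_mul, Matrix.one_mulVec, ← aff_one, add_zero] at h1
  obtain ⟨h2, h3⟩ := aff_inj h1
  refine ⟨h3, h.k0c _ x.right.2 fun v => ?_⟩
  have h4 : rp h x.right = 1 := Units.ext h2
  have h5 := rp_spec h x.right v
  rw [h4, act_one, mul_inv_eq_iff_eq_mul] at h5
  exact h5

theorem card_K0 [Finite K] (h : Sit th O K0) : ∃ m, Odd m ∧ Nat.card K0 = 20160 * m := by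
  refine ⟨Nat.card (rp h).ker, ?_, ?_⟩
  · have h1 : Nat.card ((rp h).ker.map K0.subtype) ∣ Nat.card O := by
      apply Subgroup.card_dvd_of_le
      rintro _ ⟨k, hk, rfl⟩
      refine h.k0c _ k.2 fun v => ?_
      have h5 := rp_spec h k v
      rw [(MonoidHom.mem_ker).1 hk, act_one, mul_inv_eq_iff_eq_mul] at h5
      exact h5
    rw [← Nat.card_congr ((rp h).ker.equivMapOfInjective _ K0.subtype_injective).toEquiv] at h1
    exact Odd.of_dvd_nat h.odd h1
  · have h2 : Function.Surjective (rp h) := fun s => by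
      obtain ⟨k, hk, hk'⟩ := h.rep_surj s
      exact ⟨⟨k, hk⟩, hk'⟩
    rw [← card_S, ← Nat.card_congr (QuotientGroup.quotientKerEquivOfSurjective _ h2).toEquiv,
      ← Subgroup.card_eq_card_quotient_mul_card_subgroup]

theorem card_X [Finite K] (h : Sit th O K0) : ∃ m, Odd m ∧ Nat.card (X h) = 2 ^ 10 * m := by
  obtain ⟨m, hm, hk⟩ := card_K0 h
  refine ⟨315 * m, (by decide : Odd 315).mul hm, ?_⟩
  rw [SemidirectProduct.card, hk]
  have : Nat.card (Multiplicative V) = 16 := by
    rw [Nat.card_eq_fintype_card, Fintype.card_multiplicative]; simp [V]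
  rw [this]; ring

theorem card_sylow {G : Type*} [Group G] [Finite G] {m : ℕ} (hm : Odd m) (hG : Nat.card G = 2 ^ 10 * m)
    (T : Sylow 2 G) : Nat.card T = 2 ^ 10 := by
  have : Fact (Nat.Prime 2) := ⟨Nat.prime_two⟩
  rw [T.card_eq_multiplicity, hG, Nat.factorization_mul (by norm_num) hm.pos.ne', Nat.Prime.factorization_pow Nat.prime_two,
    Finsupp.add_apply, Finsupp.single_eq_same,
    Nat.factorization_eq_zero_of_not_dvd (fun h2 => (Nat.not_even_iff_odd.2 hm) (even_iff_two_dvd.2 h2))]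

/-- the image of a Sylow subgroup under a homomorphism with kernel meeting it trivially -/
theorem exists_image {G H : Type*} [Group G] [Group H] [Finite G] [Finite H] (f : G →* H) (T : Sylow 2 G)
    (hT : Nat.card T = 2 ^ 10) (hf : ∀ x ∈ T, f x = 1 → x = 1) {m : ℕ} (hm : Odd m) (hH : Nat.card H = 2 ^ 10 * m) :
    ∃ P : Sylow 2 H, Nonempty (T ≃* P) := by
  have : Fact (Nat.Prime 2) := ⟨Nat.prime_two⟩
  have hi : Function.Injective (f.comp (T : Subgroup G).subtype) := by
    rw [injective_iff_map_eq_one]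
    intro x hx
    exact Subtype.ext (hf x x.2 hx)
  have e := MonoidHom.ofInjective hi
  have hc : Nat.card (f.comp (T : Subgroup G).subtype).range = 2 ^ 10 := by
    rw [← hT]; exact (Nat.card_congr e.toEquiv).symm
  refine ⟨Sylow.ofCard (f.comp (T : Subgroup G).subtype).range ?_, ⟨e⟩⟩
  rw [hc, hH, Nat.factorization_mul (by norm_num) hm.pos.ne', Nat.Prime.factorization_pow Nat.prime_two,
    Finsupp.add_apply, Finsupp.single_eq_same,
    Nat.factorization_eq_zero_of_not_dvd (fun h2 => (Nat.not_even_iff_odd.2 hm) (even_iff_two_dvd.2 h2))]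

/-- **Sylow 2-subgroups of order `2 ^ 10`** -/
theorem ten {K : Type*} [Group K] [Finite K] [IsSimpleGroup K] {th : V → K} {O K0 : Subgroup K} (h : Sit th O K0)
    (h11 : ¬ 2 ^ 11 ∣ Nat.card K) :
    Nonempty (K ≃* Matrix.ProjectiveSpecialLinearGroup (Fin 5) (ZMod 2)) ∨ Cfsg.IsM24 K ∨ Cfsg.IsHe K := by
  have : Fact (Nat.Prime 2) := ⟨Nat.prime_two⟩
  have : Finite (X h) := Finite.of_injective _ (toK_injective h)
  obtain ⟨T⟩ : Nonempty (Sylow 2 (X h)) := inferInstance
  obtain ⟨m, hm, hX⟩ := card_X h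
  have hT := card_sylow hm hX T
  obtain ⟨j, hj⟩ : 2 ^ 10 ∣ Nat.card K := (by norm_num : 2 ^ 10 ∣ 20160 * 16).trans h.card_dvd
  have hj2 : Odd j := by
    rw [← Nat.not_even_iff_odd, even_iff_two_dvd]
    rintro ⟨i, rfl⟩
    exact h11 ⟨i, by rw [hj]; ring⟩
  obtain ⟨P, ⟨e1⟩⟩ := exists_image (toK h) T hT (fun x _ hx => toK_injective h (by rw [hx, map_one])) hj2 hj
  obtain ⟨e0⟩ := equiv_psl 5
  have hG : Nat.card (Matrix.ProjectiveSpecialLinearGroup (Fin 5) (ZMod 2)) = 2 ^ 10 * 9765 := by
    rw [← Nat.card_congr e0.toEquiv, card_GL5]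
    norm_num
  have : Finite (Matrix.ProjectiveSpecialLinearGroup (Fin 5) (ZMod 2)) :=
    Nat.finite_of_card_ne_zero (by rw [hG]; norm_num)
  obtain ⟨R, ⟨e2⟩⟩ := exists_image (e0.toMonoidHom.comp (toG h)) T hT (by
    intro x hxT hx
    have h1 : toG h x = 1 := e0.injective (by rw [map_one]; exact hx)
    obtain ⟨h2, h3⟩ := toG_one h h1
    have h4 : (x.right : K) = 1 := by
      have h5 : orderOf (⟨(x.right : K), h3⟩ : O) ∣ Nat.card O := orderOf_dvd_natCard _
      rw [← Subgroup.orderOf_coe] at h5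
      change orderOf (x.right : K) ∣ _ at h5
      obtain ⟨n, hn⟩ := T.2 ⟨x, hxT⟩
      have h6 : x ^ 2 ^ n = 1 := congrArg Subtype.val hn
      have h7 : (x.right : K) ^ 2 ^ n = 1 := by
        have h8 := congrArg (fun y : X h => ((SemidirectProduct.rightHom (φ := phS.comp (rp h)) y : K0) : K)) h6
        simp only [map_pow, map_one] at h8
        exact h8
      have h8 : orderOf (x.right : K) ∣ 2 ^ n := orderOf_dvd_of_pow_eq_one h7
      have hc : Nat.Coprime (2 ^ n) (Nat.card O) := Nat.Coprime.pow_left _ (by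
        rw [Nat.coprime_two_left]; exact h.odd)
      exact orderOf_eq_one_iff.1 (Nat.eq_one_of_dvd_coprimes hc h8 h5)
    exact SemidirectProduct.ext h2 (Subtype.ext h4)) (m := 9765) (by decide) hG
  exact Cfsg.Agent.S0512.result (F := ZMod 2) (ZMod.card 2) P R ⟨e1.symm.trans e2⟩

end

end Cfsg.Agent.H207.LinFour
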