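import Cfsg.Agent.H207.LinFour.Spor
import Cfsg.Agent.H207.LinFour.Syl
import Cfsg.Agent.H207.LinFour.Big
import Cfsg.Agent.H49.CoStab

/-!
# S1918: the sporadic row (helper207)
-/

set_option autoImplicit false

namespace Cfsg.Agent.H207.LinFour

open Subgroup Cfsg Cfsg.Agent.H336.LinFour

theorem co3 {K : Type*} [Group K] {th : V → K} {O K0 : Subgroup K} (hK : Spor.IsoCo3 K) (h : Sit th O K0) : False := by
  have hcard : Nat.card K = 495766656000 := NotCT.Orders.co3 hK
  have hf : Finite K := Nat.finite_of_card_ne_zero (by rw [hcard]; norm_num)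
  obtain ⟨e⟩ := hK
  have hs0 : IsSimpleGroup Spor.Co3 := H49.CoStab.simple_co3
  have hs : IsSimpleGroup K := e.isSimpleGroup
  rcases ten h (by rw [hcard]; norm_num) with ⟨⟨e⟩⟩ | h1 | h1
  · obtain ⟨e0⟩ := equiv_psl 5
    have h2 := (Nat.card_congr e.toEquiv).trans ((Nat.card_congr e0.toEquiv).symm.trans card_GL5)
    rw [hcard] at h2
    exact absurd h2 (by norm_num)
  · have h2 := h1.2
    rw [hcard] at h2
    exact absurd h2 (by norm_num)
  · have h2 := h1.2
    rw [hcard] at h2
    exact absurd h2 (by norm_num)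

/-- **the sporadic row** -/
theorem row_spor {K : Type*} [Group K] [Finite K] (hK : IsSporadicGroup K) {th : V → K} {O K0 : Subgroup K}
    (h : Sit th O K0) : Spor.IsoM24 K ∨ Spor.IsoHe K := by
  rcases hK with hK | hK | hK | hK | hK | hK | hK | hK | hK | hK | hK | hK | hK | hK | hK | hK | hK | hK | hK | hK |
    hK | hK | hK | hK | hK | hK
  · exact (no_card h (NotCT.Orders.m11 hK) (by norm_num)).elim
  · exact (no_card h (NotCT.Orders.m12 hK) (by norm_num)).elim
  · exact (no_card h (NotCT.Orders.m22 hK) (by norm_num)).elim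
  · exact (no_card h (NotCT.Orders.m23 hK) (by norm_num)).elim
  · exact Or.inl hK
  · exact (no_card h (NotCT.Orders.j1 hK) (by norm_num)).elim
  · exact (no_card h (NotCT.Orders.j2 hK) (by norm_num)).elim
  · exact (no_card h (NotCT.Orders.j3 hK) (by norm_num)).elim
  · exact (j4 hK h).elim
  · exact (co1 hK h).elim
  · exact (co2 hK h).elim
  · exact (co3 hK h).elim
  · exact (no_card h (NotCT.Orders.mcl hK) (by norm_num)).elim
  · exact (no_card h (NotCT.Orders.hs hK) (by norm_num)).elim
  · exact (suz hK h).elim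
  · exact Or.inr hK
  · exact (ru hK h).elim
  · exact (no_card h (NotCT.Orders.on hK) (by norm_num)).elim
  · exact (no_card h (NotCT.Orders.ly hK) (by norm_num)).elim
  · exact (fi22 hK h).elim
  · exact (fi23 hK h).elim
  · exact (fi24 hK h).elim
  · exact (hn hK h).elim
  · exact (thompson hK h).elim
  · exact (baby hK h).elim
  · exact (monster hK h).elim

end Cfsg.Agent.H207.LinFour
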