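import Cfsg.Agent.H207.LinFour.Base
import Cfsg.Agent.NotCT.Orders
import Cfsg.Agent.KFacts.SuzLarge
import Cfsg.Agent.SuzThree.CentCard
import Cfsg.Agent.KFacts.HS.Sheet
import Cfsg.Agent.KFacts.Ru.Core
import Cfsg.Agent.RuC.Trans
import Cfsg.Agent.Ru127.Y
import Cfsg.Agent.KFacts.HN.Large
import Cfsg.Agent.KFacts.HN.PCard
import Cfsg.Agent.KFacts.HN.Classes
import Cfsg.Agent.H867.Meet.FiTwentyTwo
import Cfsg.Agent.H265.SpSix.Fischer

/-!
# S1918, sporadic rows without large extraspecial subgroups (helper207)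
-/

set_option autoImplicit false

namespace Cfsg.Agent.H207.LinFour

open Subgroup Cfsg Cfsg.Agent.H336.LinFour

variable {K : Type*} [Group K] {th : V → K} {O K0 : Subgroup K}

theorem no_card (h : Sit th O K0) {n : ℕ} (hn : Nat.card K = n) (hd : ¬ 322560 ∣ n) : False := by
  have := h.card_dvd
  rw [hn] at this
  exact hd (by norm_num at this; exact this)

theorem suz (hK : Spor.IsoSuz K) (h : Sit th O K0) : False := by
  obtain ⟨e⟩ := hK
  have hcard : Nat.card Spor.Suz = 448345497600 := NotCT.Orders.suz ⟨MulEquiv.refl _⟩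
  have hf : Finite Spor.Suz := Nat.finite_of_card_ne_zero (by rw [hcard]; norm_num)
  refine false_of_cent (h.equiv e) KFacts.SuzLarge.large.z_sq KFacts.SuzLarge.large.z_ne 448345497600 3317760 hcard ?_
    (by norm_num) (by norm_num)
  exact SuzThree.CentCard.card_C1

theorem ru (hK : Spor.IsoRu K) (h : Sit th O K0) : False := by
  obtain ⟨C, -⟩ := KFacts.Ru.exists_core hK
  have hcard : Nat.card K = 145926144000 := NotCT.Orders.ru hK
  have hf : Finite K := Nat.finite_of_card_ne_zero (by rw [hcard]; norm_num)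
  exact false_of_cent h (C.z_sq _) (fun h => one_ne_zero (C.z_eq_one h)) 145926144000 245760 hcard
    (Ru127.Sg.card_cent C) (by norm_num) (by norm_num)

theorem hn (hK : Spor.IsoHN K) (h : Sit th O K0) : False := by
  obtain ⟨e⟩ := hK
  have hf : Finite Spor.HN := Cfsg.Agent.HN.Index.finite_HN
  exact false_of_cent (h.equiv e) KFacts.HN.large.z_sq KFacts.HN.large.z_ne 273030912000000 3686400
    KFacts.HN.Classes.card_HN KFacts.HN.PCard.card_centralizer (by norm_num) (by norm_num)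

theorem fi22 (hK : Spor.IsoFi22 K) (h : Sit th O K0) : False := by
  obtain ⟨e⟩ := hK
  have C := Cfsg.Agent.LThreeFi22.Inst.ctx e
  have hf : Finite K := C.finite
  obtain ⟨a, ha, b, -, c, hc, hab, hac, hbc⟩ := C.mupos
  have hne : a ≠ c := by
    rintro rfl
    exact hab hbc.symm
  refine false_of_cent h (z := a * c) ?_ ?_ 64561751654400 53084160 C.card
    (H867.Meet.FiTwentyTwo.card_pair C ha hc hne hac) (by norm_num) (by norm_num)
  · calc a * c * (a * c) = a * (c * a) * c := by group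
      _ = (a * a) * (c * c) := by rw [← hac]; group
      _ = 1 := by rw [C.sq a ha, C.sq c hc, one_mul]
  · intro h1
    apply hne
    have h2 : a = c⁻¹ := eq_inv_of_mul_eq_one_left h1
    rw [h2, inv_eq_of_mul_eq_one_left (C.sq c hc)]

/-! ### `Fi₂₃` -/

/-- a conjugation invariant set of odd size contains an element commuting with `A` -/
theorem exists_comm (h : Sit th O K0) {D : Set K} (hD : ∀ g : K, ∀ d ∈ D, g * d * g⁻¹ ∈ D)
    (hodd : ¬ 2 ∣ Nat.card D) : ∃ d ∈ D, ∀ v, d * th v = th v * d := by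
  let act : MulAction h.A D :=
    { smul := fun g d => ⟨g.1 * d.1 * g.1⁻¹, hD _ _ d.2⟩
      one_smul := fun d => Subtype.ext (by show 1 * d.1 * 1⁻¹ = d.1; group)
      mul_smul := fun g g' d => Subtype.ext (by
        show g.1 * g'.1 * d.1 * (g.1 * g'.1)⁻¹ = g.1 * (g'.1 * d.1 * g'.1⁻¹) * g.1⁻¹; group) }
  have hp : IsPGroup 2 h.A := h.isPGroup_A
  obtain ⟨d, hd⟩ := hp.nonempty_fixed_point_of_prime_not_dvd_card D hodd
  refine ⟨d.1, d.2, fun v => ?_⟩
  have h1 : th v * d.1 * (th v)⁻¹ = d.1 := congrArg Subtype.val (hd ⟨th v, h.th_mem v⟩)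
  nth_rewrite 1 [← h1]
  rw [inv_mul_cancel_right]

/-- an involution whose class has odd size is conjugate to the elements of `A` -/
theorem mem_of_odd (h : Sit th O K0) {D : Set K} (hD : ∀ g : K, ∀ d ∈ D, g * d * g⁻¹ ∈ D)
    (h2 : ∀ d ∈ D, d * d = 1) (h1 : ∀ d ∈ D, d ≠ 1) (hodd : ¬ 2 ∣ Nat.card D) {v : V} (hv : v ≠ 0) : th v ∈ D := by
  obtain ⟨d, hd, hc⟩ := exists_comm h hD hodd
  obtain ⟨u, hu⟩ := h.mem_of_mul_self hc (h2 d hd)
  have hu0 : u ≠ 0 := fun h0 => h1 d hd (by rw [← hu, h0, h.zero])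
  obtain ⟨k, -, hk⟩ := h.exists_conj hu0 hv
  rw [← hk, hu]
  exact hD k d hd

/-- no class of 3-transpositions of odd size -/
theorem three (h : Sit th O K0) {D : Set K} (hD : IsThreeTranspositionClass D) (hodd : ¬ 2 ∣ Nat.card D) : False := by
  obtain ⟨hs, ⟨d0, hd0, hDd⟩, hcl⟩ := hD
  have hinv : ∀ g : K, ∀ d ∈ D, g * d * g⁻¹ ∈ D := by
    intro g d hd
    rw [hDd] at hd ⊢
    exact (show IsConj d0 _ from IsConj.trans hd (isConj_iff.2 ⟨g, rfl⟩))
  have hm : ∀ {v : V}, v ≠ 0 → th v ∈ D := fun {v} hv => mem_of_odd h hinv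
    (fun d hd => by
      have := pow_orderOf_eq_one d
      rwa [hs.1 d hd, pow_two] at this)
    (fun d hd h1 => by
      have := hs.1 d hd
      rw [h1, orderOf_one] at this
      exact absurd this (by norm_num)) hodd hv
  have e1 : (Pi.single 0 1 : V) ≠ 0 := by decide
  have e2 : (Pi.single 1 1 : V) ≠ 0 := by decide
  have e3 : (Pi.single 0 1 + Pi.single 1 1 : V) ≠ 0 := by decide
  have e4 : (Pi.single 0 1 + Pi.single 1 1 : V) ≠ Pi.single 0 1 := by decide
  have hc : ∀ d ∈ D, d * th (Pi.single 0 1 + Pi.single 1 1) = th (Pi.single 0 1 + Pi.single 1 1) * d := by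
    intro d hd
    rw [h.add]
    exact H265.SpSix.comm_of_three hs (hm e1) (hm e2) (by rw [← h.add]; exact hm e3) (h.comm _ _) hd
  have hz : th (Pi.single 0 1 + Pi.single 1 1) ∈ Subgroup.centralizer (Set.univ : Set K) := by
    have h1 : Subgroup.closure D ≤ Subgroup.centralizer ({th (Pi.single 0 1 + Pi.single 1 1)} : Set K) := by
      rw [Subgroup.closure_le]
      intro d hd
      rw [SetLike.mem_coe, Subgroup.mem_centralizer_singleton_iff]
      exact (hc d hd)
    rw [Subgroup.mem_centralizer_iff]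
    intro g _
    have h3 : g ∈ Subgroup.centralizer ({th (Pi.single 0 1 + Pi.single 1 1)} : Set K) :=
      h1 (hcl ▸ Subgroup.mem_top g)
    rw [Subgroup.mem_centralizer_singleton_iff] at h3
    exact h3
  obtain ⟨k, -, hk⟩ := h.exists_conj e3 e1
  have h4 := Subgroup.mem_centralizer_iff.1 hz k (Set.mem_univ _)
  rw [h4, mul_inv_cancel_right] at hk
  exact e4 (h.inj hk)

theorem fi23 (hK : Spor.IsoFi23 K) (h : Sit th O K0) : False := by
  obtain ⟨e⟩ := hK
  have h23 := Cfsg.Agent.S1697.result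
  have hcard : Nat.card Cfsg.Spor.Fi23 = 4089470473293004800 := h23.2
  have hfin : Finite Cfsg.Spor.Fi23 := Nat.finite_of_card_ne_zero (by rw [hcard]; norm_num)
  obtain ⟨R, hR, hR0⟩ := Cfsg.Agent.Fischer.Fi23Class.exists_rank3 hcard.le
  have hD := R.isThreeTranspositionClass
  have hn : Nat.card (Set.range R.t) = 31671 := by
    rw [R.card_range, ← Subgroup.index_eq_card]
    exact Cfsg.Agent.SporRec.Fi23Index.index_H
  refine three (h.equiv e) hD ?_
  rw [show Nat.card ↑(Set.range R.t) = 31671 from hn]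
  norm_num

end Cfsg.Agent.H207.LinFour
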